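import Mathlib.CategoryTheory.Abelian.Refinements
import Mathlib.Algebra.Homology.ShortComplex.ShortExact
import Mathlib.CategoryTheory.Preadditive.Biproducts

/-!
# Covers by powers of objects `J n` and chains of covers (node (J2) and (J3) of the plan for S13667)

`C` is an abelian category, `J : ℕ → C`.

* `pw J r`: the direct sum of `r` copies of `J`.
* `Chain J`: objects `Z n`, covers `e n : pw (J n) (r n) ⟶ Z n` with kernel `i n : Z (n+1) ⟶ pw (J n) (r n)`, such that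
  every map `J n ⟶ Z n` lifts uniquely to `pw (J n) (r n)`.
* `Chain.mapZ`, `Chain.mapP`: functoriality, with `mapP_e`, `i_mapP`, uniqueness, composition, identity, zero.
* `Seq`: two composable maps `c₁.Z 0 ⟶ c₂.Z 0 ⟶ c₃.Z 0` forming a short exact sequence, such that
  `Hom (J n, c₂.Z n) → Hom (J n, c₃.Z n)` is onto as soon as the sequence of the `Z n` is short exact;
  `Seq.seqZ_shortExact`, `Seq.splitting`: for every `n` the sequence of the `Z n` is short exact and the sequence of the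
  `pw (J n) (r n)` is split exact.
* `Seq.exists_iso`: two such sequences with the same terms differ by automorphisms of the `pw (J n) (r n)` of the
  middle chain.
-/

set_option autoImplicit false

universe v u

namespace K293.JChain

open CategoryTheory CategoryTheory.Limits

attribute [local instance] Abelian.hasFiniteBiproducts

variable {C : Type u} [Category.{v} C] [Abelian C]

/-- the direct sum of `r` copies of `J` -/
noncomputable abbrev pw (J : C) (r : ℕ) : C := ⨁ fun _ : Fin r => J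

/-- every map `J ⟶ G` lifts uniquely along `e` -/
def UL (J : C) {X G : C} (e : X ⟶ G) : Prop := ∀ f : J ⟶ G, ∃! g : J ⟶ X, g ≫ e = f

section UL

variable {J X G : C} {e : X ⟶ G}

theorem UL.ext (h : UL J e) {g g' : J ⟶ X} (hg : g ≫ e = g' ≫ e) : g = g' :=
  (h (g' ≫ e)).unique hg rfl

theorem UL.pw (h : UL J e) {s : ℕ} (f : pw J s ⟶ G) : ∃! g : JChain.pw J s ⟶ X, g ≫ e = f := by
  choose g hg hg' using h
  refine ⟨biproduct.desc fun j => g (biproduct.ι (fun _ : Fin s => J) j ≫ f), ?_, fun y hy => ?_⟩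
  · refine biproduct.hom_ext' _ _ fun j => ?_
    rw [biproduct.ι_desc_assoc]
    exact hg _
  · refine biproduct.hom_ext' _ _ fun j => ?_
    rw [biproduct.ι_desc]
    refine hg' _ _ ?_
    change (biproduct.ι (fun _ : Fin s => J) j ≫ y) ≫ e = biproduct.ι (fun _ : Fin s => J) j ≫ f
    rw [Category.assoc, hy]

theorem UL.pw_ext (h : UL J e) {s : ℕ} {g g' : JChain.pw J s ⟶ X} (hg : g ≫ e = g' ≫ e) : g = g' :=
  (h.pw (g' ≫ e)).unique hg rfl

end UL

section Step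

variable {J : C} {P₁ P₂ P₃ : C} {S : ShortComplex C} {e₁ : P₁ ⟶ S.X₁} {e₂ : P₂ ⟶ S.X₂} {e₃ : P₃ ⟶ S.X₃}
  {a : P₁ ⟶ P₂} {b : P₂ ⟶ P₃}

/-- the middle row is split exact -/
theorem exists_splitting {r₁ r₃ : ℕ} {e₁ : pw J r₁ ⟶ S.X₁} {e₃ : pw J r₃ ⟶ S.X₃} {a : pw J r₁ ⟶ P₂}
    {b : P₂ ⟶ pw J r₃} {r₂ : ℕ} (q : P₂ ≅ pw J r₂) (hS : S.ShortExact)
    (h₁ : UL J e₁) (h₂ : UL J e₂) (h₃ : UL J e₃) (ha : a ≫ e₂ = e₁ ≫ S.f) (hb : b ≫ e₃ = e₂ ≫ S.g)
    (w : a ≫ b = 0) (hl : ∀ y : J ⟶ S.X₃, ∃ x : J ⟶ S.X₂, x ≫ S.g = y) :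
    Nonempty (ShortComplex.mk a b w).Splitting := by
  have := hS.mono_f
  -- the section
  have h4 : ∀ j : Fin r₃, ∃ x : J ⟶ P₂, x ≫ b = biproduct.ι (fun _ : Fin r₃ => J) j := fun j => by
    obtain ⟨x, hx⟩ := hl (biproduct.ι (fun _ : Fin r₃ => J) j ≫ e₃)
    obtain ⟨x', hx', -⟩ := h₂ x
    refine ⟨x', h₃.ext ?_⟩
    rw [Category.assoc, hb, ← Category.assoc, hx', hx]
  choose σ hσ using h4
  let s : pw J r₃ ⟶ P₂ := biproduct.desc σ
  have hs : s ≫ b = 𝟙 _ := biproduct.hom_ext' _ _ fun j => by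
    rw [biproduct.ι_desc_assoc, hσ, Category.comp_id]
  -- exactness for maps from `J`
  have h5 : ∀ x : J ⟶ P₂, x ≫ b = 0 → ∃ y : J ⟶ pw J r₁, y ≫ a = x := fun x hx => by
    have h6 : (x ≫ e₂) ≫ S.g = 0 := by rw [Category.assoc, ← hb, ← Category.assoc, hx, zero_comp]
    obtain ⟨y, hy, -⟩ := h₁ (hS.exact.lift (x ≫ e₂) h6)
    refine ⟨y, h₂.ext ?_⟩
    rw [Category.assoc, ha, ← Category.assoc, hy, hS.exact.lift_f]
  have h7 : ∀ x : JChain.pw J r₂ ⟶ P₂, x ≫ b = 0 → ∃ y : pw J r₂ ⟶ pw J r₁, y ≫ a = x := fun x hx => by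
    choose y hy using fun j : Fin r₂ => h5 (biproduct.ι (fun _ : Fin r₂ => J) j ≫ x) (by
      rw [Category.assoc, hx, comp_zero])
    refine ⟨biproduct.desc y, biproduct.hom_ext' _ _ fun j => ?_⟩
    rw [biproduct.ι_desc_assoc, hy]
  obtain ⟨y, hy⟩ := h7 (q.inv ≫ (𝟙 _ - b ≫ s)) (by
    rw [Category.assoc, Preadditive.sub_comp, Category.id_comp, Category.assoc, hs, Category.comp_id, sub_self,
      comp_zero])
  have hr : (q.hom ≫ y) ≫ a = 𝟙 _ - b ≫ s := by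
    rw [Category.assoc, hy, q.hom_inv_id_assoc]
  have h8 : ∀ {x : pw J r₁ ⟶ pw J r₁}, x ≫ a = 0 → x = 0 := fun {x} hx => by
    refine h₁.pw_ext ?_
    rw [← cancel_mono S.f, Category.assoc, ← ha, ← Category.assoc, hx, zero_comp, zero_comp, zero_comp]
  refine ⟨⟨q.hom ≫ y, s, ?_, hs, ?_⟩⟩
  · refine sub_eq_zero.1 (h8 ?_)
    rw [Preadditive.sub_comp, Category.assoc, hr, Preadditive.comp_sub, Category.id_comp, Category.comp_id,
      ← Category.assoc a b, w, zero_comp, sub_zero, sub_self]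
  · change (q.hom ≫ y) ≫ a + b ≫ s = 𝟙 _
    rw [hr, sub_add_cancel]

/-- the kernels of the columns of a morphism of short exact sequences, with epimorphic columns -/
theorem shortExact_ker {K₁ K₂ K₃ : C} {i₁ : K₁ ⟶ P₁} {i₂ : K₂ ⟶ P₂} {i₃ : K₃ ⟶ P₃} {w₁ : i₁ ≫ e₁ = 0}
    {w₂ : i₂ ≫ e₂ = 0} {w₃ : i₃ ≫ e₃ = 0} (s₁ : (ShortComplex.mk i₁ e₁ w₁).ShortExact)
    (s₂ : (ShortComplex.mk i₂ e₂ w₂).ShortExact) (s₃ : (ShortComplex.mk i₃ e₃ w₃).ShortExact)
    (hS : S.ShortExact) (ha : a ≫ e₂ = e₁ ≫ S.f) (hb : b ≫ e₃ = e₂ ≫ S.g) {w : a ≫ b = 0}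
    (hP : (ShortComplex.mk a b w).ShortExact) {u : K₁ ⟶ K₂} {v : K₂ ⟶ K₃} (hu : u ≫ i₂ = i₁ ≫ a)
    (hv : v ≫ i₃ = i₂ ≫ b) (w' : u ≫ v = 0) : (ShortComplex.mk u v w').ShortExact := by
  have m₁ : Mono i₁ := s₁.mono_f
  have m₂ : Mono i₂ := s₂.mono_f
  have m₃ : Mono i₃ := s₃.mono_f
  have p₁ : Epi e₁ := s₁.epi_g
  have ma : Mono a := hP.mono_f
  have pb : Epi b := hP.epi_g
  have mf : Mono S.f := hS.mono_f
  have mu : Mono u := by
    have : Mono (u ≫ i₂) := by rw [hu]; infer_instance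
    exact mono_of_mono u i₂
  have ev : Epi v := by
    rw [epi_iff_surjective_up_to_refinements]
    intro A y
    obtain ⟨A', π, hπ, z, hz⟩ := surjective_up_to_refinements_of_epi b (y ≫ i₃)
    have h1 : (z ≫ e₂) ≫ S.g = 0 := by
      rw [Category.assoc, ← hb, ← Category.assoc, ← hz, Category.assoc, Category.assoc, w₃, comp_zero, comp_zero]
    let x := hS.exact.lift (z ≫ e₂) h1
    have hx : x ≫ S.f = z ≫ e₂ := hS.exact.lift_f _ _
    obtain ⟨A'', π', hπ', x', hx'⟩ := surjective_up_to_refinements_of_epi e₁ x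
    have h2 : (π' ≫ z - x' ≫ a) ≫ e₂ = 0 := by
      rw [Preadditive.sub_comp, Category.assoc, Category.assoc, ha, ← Category.assoc x', ← hx', Category.assoc, hx,
        sub_self]
    refine ⟨A'', π' ≫ π, epi_comp _ _, s₂.exact.lift _ h2, ?_⟩
    rw [← cancel_mono i₃, Category.assoc, Category.assoc, Category.assoc, hv, ← Category.assoc (s₂.exact.lift _ h2)]
    have h3 : s₂.exact.lift _ h2 ≫ i₂ = π' ≫ z - x' ≫ a := s₂.exact.lift_f _ _
    rw [h3, Preadditive.sub_comp, Category.assoc, Category.assoc, w, comp_zero, sub_zero, ← hz]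
  have ex : (ShortComplex.mk u v w').Exact := by
    rw [ShortComplex.exact_iff_exact_up_to_refinements]
    intro A y hy
    change y ≫ v = 0 at hy
    have h1 : (y ≫ i₂) ≫ b = 0 := by
      rw [Category.assoc, ← hv, ← Category.assoc, hy, zero_comp]
    let x := hP.exact.lift (y ≫ i₂) h1
    have hx : x ≫ a = y ≫ i₂ := hP.exact.lift_f _ _
    have h2 : x ≫ e₁ = 0 := by
      rw [← cancel_mono S.f, Category.assoc, ← ha, ← Category.assoc, hx, Category.assoc, w₂, comp_zero, zero_comp]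
    refine ⟨A, 𝟙 A, inferInstance, s₁.exact.lift x h2, ?_⟩
    have h3 : s₁.exact.lift x h2 ≫ i₁ = x := s₁.exact.lift_f _ _
    change 𝟙 A ≫ y = s₁.exact.lift x h2 ≫ u
    rw [Category.id_comp, ← cancel_mono i₂, Category.assoc, hu, ← Category.assoc, h3, hx]
  exact { exact := ex, mono_f := mu, epi_g := ev }

/-- two split exact sequences with the same terms differ by an automorphism of the middle term -/
theorem exists_iso_of_splitting {Q P R : C} {a a' : Q ⟶ P} {b b' : P ⟶ R} {w : a ≫ b = 0} {w' : a' ≫ b' = 0}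
    (σ : (ShortComplex.mk a b w).Splitting) (τ : (ShortComplex.mk a' b' w').Splitting) :
    ∃ g : P ≅ P, a ≫ g.hom = a' ∧ g.hom ≫ b' = b := by
  have e4 : σ.s ≫ σ.r = 0 := σ.s_r
  have f4 : τ.s ≫ τ.r = 0 := τ.s_r
  obtain ⟨r, s, e1, e2, e3⟩ := σ
  obtain ⟨r', s', f1, f2, f3⟩ := τ
  dsimp only at r s e1 e2 e3 e4 r' s' f1 f2 f3 f4
  have k1 : ∀ {X : C} (x : Q ⟶ X), a ≫ r ≫ x = x := fun x => by rw [← Category.assoc, e1, Category.id_comp]
  have k2 : ∀ {X : C} (x : Q ⟶ X), a' ≫ r' ≫ x = x := fun x => by rw [← Category.assoc, f1, Category.id_comp]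
  have k3 : ∀ {X : C} (x : R ⟶ X), s ≫ b ≫ x = x := fun x => by rw [← Category.assoc, e2, Category.id_comp]
  have k4 : ∀ {X : C} (x : R ⟶ X), s' ≫ b' ≫ x = x := fun x => by rw [← Category.assoc, f2, Category.id_comp]
  have l1 : ∀ {X : C} (x : R ⟶ X), a ≫ b ≫ x = 0 := fun x => by rw [← Category.assoc, w, zero_comp]
  have l2 : ∀ {X : C} (x : R ⟶ X), a' ≫ b' ≫ x = 0 := fun x => by rw [← Category.assoc, w', zero_comp]
  have l3 : ∀ {X : C} (x : Q ⟶ X), s ≫ r ≫ x = 0 := fun x => by rw [← Category.assoc, e4, zero_comp]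
  have l4 : ∀ {X : C} (x : Q ⟶ X), s' ≫ r' ≫ x = 0 := fun x => by rw [← Category.assoc, f4, zero_comp]
  refine ⟨⟨r ≫ a' + b ≫ s', r' ≫ a + b' ≫ s, ?_, ?_⟩, ?_, ?_⟩
  · simp only [Preadditive.add_comp, Preadditive.comp_add, Category.assoc, k2, l2, l4, k4, add_zero, zero_add,
      comp_zero]
    exact e3
  · simp only [Preadditive.add_comp, Preadditive.comp_add, Category.assoc, k1, l1, l3, k3, add_zero, zero_add,
      comp_zero]
    exact f3
  · simp only [Preadditive.comp_add, k1, l1, add_zero]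
  · simp only [Preadditive.add_comp, Category.assoc, w', f2, comp_zero, zero_add, Category.comp_id]

end Step

/-- Chains of covers. -/
structure Chain (J : ℕ → C) where
  /-- the objects -/
  Z : ℕ → C
  /-- the ranks -/
  r : ℕ → ℕ
  /-- the covers -/
  e : ∀ n, pw (J n) (r n) ⟶ Z n
  /-- the kernels -/
  i : ∀ n, Z (n + 1) ⟶ pw (J n) (r n)
  w : ∀ n, i n ≫ e n = 0
  se : ∀ n, (ShortComplex.mk (i n) (e n) (w n)).ShortExact
  lift : ∀ n, UL (J n) (e n)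

namespace Chain

variable {J : ℕ → C}

attribute [reassoc (attr := simp)] w

instance (c : Chain J) (n : ℕ) : Mono (c.i n) := (c.se n).mono_f

instance (c : Chain J) (n : ℕ) : Epi (c.e n) := (c.se n).epi_g

variable {c c' c'' : Chain J}

/-- the lift to the covers -/
noncomputable def liftP {n : ℕ} (f : c.Z n ⟶ c'.Z n) : pw (J n) (c.r n) ⟶ pw (J n) (c'.r n) :=
  ((c'.lift n).pw (c.e n ≫ f)).choose

@[reassoc (attr := simp)]
theorem liftP_e {n : ℕ} (f : c.Z n ⟶ c'.Z n) : liftP f ≫ c'.e n = c.e n ≫ f :=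
  ((c'.lift n).pw (c.e n ≫ f)).choose_spec.1

theorem eq_liftP {n : ℕ} {f : c.Z n ⟶ c'.Z n} {x : pw (J n) (c.r n) ⟶ pw (J n) (c'.r n)}
    (hx : x ≫ c'.e n = c.e n ≫ f) : x = liftP f :=
  (c'.lift n).pw_ext (hx.trans (liftP_e f).symm)

/-- the induced map of the kernels -/
noncomputable def liftZ {n : ℕ} (f : c.Z n ⟶ c'.Z n) : c.Z (n + 1) ⟶ c'.Z (n + 1) :=
  (c'.se n).exact.lift (c.i n ≫ liftP f) (by
    change (c.i n ≫ liftP f) ≫ c'.e n = 0
    rw [Category.assoc, liftP_e, w_assoc, zero_comp])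

@[reassoc (attr := simp)]
theorem liftZ_i {n : ℕ} (f : c.Z n ⟶ c'.Z n) : liftZ f ≫ c'.i n = c.i n ≫ liftP f :=
  (c'.se n).exact.lift_f _ _

theorem eq_liftZ {n : ℕ} {f : c.Z n ⟶ c'.Z n} {x : c.Z (n + 1) ⟶ c'.Z (n + 1)}
    (hx : x ≫ c'.i n = c.i n ≫ liftP f) : x = liftZ f := by
  rw [← cancel_mono (c'.i n), hx, liftZ_i]

theorem liftP_comp {n : ℕ} (f : c.Z n ⟶ c'.Z n) (g : c'.Z n ⟶ c''.Z n) : liftP (f ≫ g) = liftP f ≫ liftP g :=
  (eq_liftP (by rw [Category.assoc, liftP_e, liftP_e_assoc])).symm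

theorem liftZ_comp {n : ℕ} (f : c.Z n ⟶ c'.Z n) (g : c'.Z n ⟶ c''.Z n) : liftZ (f ≫ g) = liftZ f ≫ liftZ g :=
  (eq_liftZ (by rw [Category.assoc, liftZ_i, liftZ_i_assoc, liftP_comp])).symm

theorem liftP_zero {n : ℕ} : liftP (0 : c.Z n ⟶ c'.Z n) = 0 :=
  (eq_liftP (by rw [zero_comp, comp_zero])).symm

theorem liftZ_zero {n : ℕ} : liftZ (0 : c.Z n ⟶ c'.Z n) = 0 :=
  (eq_liftZ (by rw [zero_comp, liftP_zero, comp_zero])).symm

theorem liftP_id {n : ℕ} : liftP (𝟙 (c.Z n)) = 𝟙 _ :=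
  (eq_liftP (by rw [Category.id_comp, Category.comp_id])).symm

theorem liftZ_id {n : ℕ} : liftZ (𝟙 (c.Z n)) = 𝟙 _ :=
  (eq_liftZ (by rw [Category.id_comp, liftP_id, Category.comp_id])).symm

theorem liftP_add {n : ℕ} (f g : c.Z n ⟶ c'.Z n) : liftP (f + g) = liftP f + liftP g :=
  (eq_liftP (by rw [Preadditive.add_comp, liftP_e, liftP_e, Preadditive.comp_add])).symm

theorem liftZ_add {n : ℕ} (f g : c.Z n ⟶ c'.Z n) : liftZ (f + g) = liftZ f + liftZ g :=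
  (eq_liftZ (by rw [Preadditive.add_comp, liftZ_i, liftZ_i, liftP_add, Preadditive.comp_add])).symm

/-- functoriality of the objects `Z n` -/
noncomputable def mapZ (φ : c.Z 0 ⟶ c'.Z 0) : ∀ n, c.Z n ⟶ c'.Z n
  | 0 => φ
  | n + 1 => liftZ (mapZ φ n)

/-- functoriality of the covers -/
noncomputable def mapP (φ : c.Z 0 ⟶ c'.Z 0) (n : ℕ) : pw (J n) (c.r n) ⟶ pw (J n) (c'.r n) := liftP (mapZ φ n)

@[simp] theorem mapZ_zero_eq (φ : c.Z 0 ⟶ c'.Z 0) : mapZ φ 0 = φ := rfl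

theorem mapZ_succ (φ : c.Z 0 ⟶ c'.Z 0) (n : ℕ) : mapZ φ (n + 1) = liftZ (mapZ φ n) := rfl

@[reassoc (attr := simp)]
theorem mapP_e (φ : c.Z 0 ⟶ c'.Z 0) (n : ℕ) : mapP φ n ≫ c'.e n = c.e n ≫ mapZ φ n := liftP_e _

@[reassoc (attr := simp)]
theorem mapZ_i (φ : c.Z 0 ⟶ c'.Z 0) (n : ℕ) : mapZ φ (n + 1) ≫ c'.i n = c.i n ≫ mapP φ n := liftZ_i _

theorem eq_mapP {φ : c.Z 0 ⟶ c'.Z 0} {n : ℕ} {x : pw (J n) (c.r n) ⟶ pw (J n) (c'.r n)}
    (hx : x ≫ c'.e n = c.e n ≫ mapZ φ n) : x = mapP φ n := eq_liftP hx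

theorem eq_mapZ {φ : c.Z 0 ⟶ c'.Z 0} {n : ℕ} {x : c.Z (n + 1) ⟶ c'.Z (n + 1)}
    (hx : x ≫ c'.i n = c.i n ≫ mapP φ n) : x = mapZ φ (n + 1) := eq_liftZ hx

theorem mapZ_comp (φ : c.Z 0 ⟶ c'.Z 0) (ψ : c'.Z 0 ⟶ c''.Z 0) (n : ℕ) :
    (mapZ (φ ≫ ψ) n : c.Z n ⟶ c''.Z n) = mapZ φ n ≫ mapZ ψ n := by
  induction n with
  | zero => rfl
  | succ n ih => rw [mapZ_succ, mapZ_succ, mapZ_succ, ih, liftZ_comp]

theorem mapP_comp (φ : c.Z 0 ⟶ c'.Z 0) (ψ : c'.Z 0 ⟶ c''.Z 0) (n : ℕ) :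
    (mapP (φ ≫ ψ) n : pw (J n) (c.r n) ⟶ pw (J n) (c''.r n)) = mapP φ n ≫ mapP ψ n := by
  rw [mapP, mapP, mapP, mapZ_comp, liftP_comp]

theorem mapZ_zero (n : ℕ) : mapZ (0 : c.Z 0 ⟶ c'.Z 0) n = 0 := by
  induction n with
  | zero => rfl
  | succ n ih => rw [mapZ_succ, ih, liftZ_zero]

theorem mapP_zero (n : ℕ) : mapP (0 : c.Z 0 ⟶ c'.Z 0) n = 0 := by
  rw [mapP, mapZ_zero, liftP_zero]

theorem mapZ_id (n : ℕ) : mapZ (𝟙 (c.Z 0)) n = 𝟙 _ := by
  induction n with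
  | zero => rfl
  | succ n ih => rw [mapZ_succ, ih, liftZ_id]

theorem mapP_id (n : ℕ) : mapP (𝟙 (c.Z 0)) n = 𝟙 _ := by
  rw [mapP, mapZ_id, liftP_id]

theorem mapZ_add (φ ψ : c.Z 0 ⟶ c'.Z 0) (n : ℕ) : mapZ (φ + ψ) n = mapZ φ n + mapZ ψ n := by
  induction n with
  | zero => rfl
  | succ n ih => rw [mapZ_succ, ih, liftZ_add]; rfl

theorem mapP_add (φ ψ : c.Z 0 ⟶ c'.Z 0) (n : ℕ) : mapP (φ + ψ) n = mapP φ n + mapP ψ n := by
  rw [mapP, mapZ_add, liftP_add]; rfl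

/-- the differential of the complex of covers -/
noncomputable def d (c : Chain J) (n : ℕ) : pw (J (n + 1)) (c.r (n + 1)) ⟶ pw (J n) (c.r n) := c.e (n + 1) ≫ c.i n

@[reassoc (attr := simp)]
theorem d_e (c : Chain J) (n : ℕ) : c.d n ≫ c.e n = 0 := by
  rw [d, Category.assoc, w, comp_zero]

@[reassoc (attr := simp)]
theorem d_d (c : Chain J) (n : ℕ) : c.d (n + 1) ≫ c.d n = 0 := by
  rw [d, d, Category.assoc, w_assoc, zero_comp, comp_zero]

@[reassoc]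
theorem mapP_d (φ : c.Z 0 ⟶ c'.Z 0) (n : ℕ) : mapP φ (n + 1) ≫ c'.d n = c.d n ≫ mapP φ n := by
  rw [d, d, mapP_e_assoc, mapZ_i, Category.assoc]

/-- exactness of `P (n+1) ⟶ P n ⟶ Z n ⟶ 0` -/
theorem exact_d_e (c : Chain J) (n : ℕ) : (ShortComplex.mk (c.d n) (c.e n) (c.d_e n)).Exact := by
  rw [ShortComplex.exact_iff_exact_up_to_refinements]
  intro A y hy
  change y ≫ c.e n = 0 at hy
  obtain ⟨A', π, hπ, x, hx⟩ := surjective_up_to_refinements_of_epi (c.e (n + 1)) ((c.se n).exact.lift y hy)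
  refine ⟨A', π, hπ, x, ?_⟩
  have h1 : (c.se n).exact.lift y hy ≫ c.i n = y := (c.se n).exact.lift_f _ _
  change π ≫ y = x ≫ c.e (n + 1) ≫ c.i n
  rw [← Category.assoc, ← hx, Category.assoc, h1]

/-- exactness of `P (n+2) ⟶ P (n+1) ⟶ P n` -/
theorem exact_d_d (c : Chain J) (n : ℕ) : (ShortComplex.mk (c.d (n + 1)) (c.d n) (c.d_d n)).Exact := by
  rw [ShortComplex.exact_iff_exact_up_to_refinements]
  intro A y hy
  change y ≫ c.e (n + 1) ≫ c.i n = 0 at hy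
  have h1 : y ≫ c.e (n + 1) = 0 := by
    rw [← cancel_mono (c.i n), Category.assoc, hy, zero_comp]
  exact (c.exact_d_e (n + 1)).exact_up_to_refinements y h1

end Chain

/-- a short exact sequence of chains for which maps from the `J n` lift -/
structure Seq {J : ℕ → C} (c₁ c₂ c₃ : Chain J) where
  /-- the first map -/
  f : c₁.Z 0 ⟶ c₂.Z 0
  /-- the second map -/
  g : c₂.Z 0 ⟶ c₃.Z 0
  w : f ≫ g = 0
  se : (ShortComplex.mk f g w).ShortExact
  lift : ∀ (n : ℕ) (w' : Chain.mapZ f n ≫ Chain.mapZ g n = 0), (ShortComplex.mk _ _ w').ShortExact →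
    ∀ y : J n ⟶ c₃.Z n, ∃ x : J n ⟶ c₂.Z n, x ≫ Chain.mapZ g n = y

namespace Seq

variable {J : ℕ → C} {c₁ c₂ c₃ : Chain J} (s : Seq c₁ c₂ c₃)

theorem wZ (n : ℕ) : Chain.mapZ s.f n ≫ Chain.mapZ s.g n = 0 := by
  rw [← Chain.mapZ_comp, s.w, Chain.mapZ_zero]

theorem wP (n : ℕ) : Chain.mapP s.f n ≫ Chain.mapP s.g n = 0 := by
  rw [← Chain.mapP_comp, s.w, Chain.mapP_zero]

/-- the sequence of the `Z n` -/
noncomputable def seqZ (n : ℕ) : ShortComplex C := ShortComplex.mk _ _ (s.wZ n)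

/-- the sequence of the covers -/
noncomputable def seqP (n : ℕ) : ShortComplex C := ShortComplex.mk _ _ (s.wP n)

theorem splitting_aux (n : ℕ) (h : (s.seqZ n).ShortExact) : Nonempty (s.seqP n).Splitting :=
  exists_splitting (S := s.seqZ n) (Iso.refl _) h (c₁.lift n) (c₂.lift n) (c₃.lift n) (Chain.mapP_e _ _)
    (Chain.mapP_e _ _) (s.wP n) (s.lift n (s.wZ n) h)

theorem seqP_shortExact_aux (n : ℕ) (h : (s.seqZ n).ShortExact) : (s.seqP n).ShortExact := by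
  obtain ⟨σ⟩ := s.splitting_aux n h
  exact σ.shortExact

/-- **(J2)** the sequences of the `Z n` are short exact -/
theorem seqZ_shortExact (n : ℕ) : (s.seqZ n).ShortExact := by
  induction n with
  | zero => exact s.se
  | succ n ih =>
    exact shortExact_ker (S := s.seqZ n) (c₁.se n) (c₂.se n) (c₃.se n) ih (Chain.mapP_e _ _) (Chain.mapP_e _ _)
      (s.seqP_shortExact_aux n ih) (Chain.mapZ_i _ _) (Chain.mapZ_i _ _) (s.wZ (n + 1))

/-- **(J2)** the sequences of the covers are split exact -/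
theorem splitting (n : ℕ) : Nonempty (s.seqP n).Splitting := s.splitting_aux n (s.seqZ_shortExact n)

theorem seqP_shortExact (n : ℕ) : (s.seqP n).ShortExact := s.seqP_shortExact_aux n (s.seqZ_shortExact n)

/-- **(J3)** two sequences with the same terms differ by automorphisms of the covers of the middle term -/
theorem exists_iso (t : Seq c₁ c₂ c₃) (n : ℕ) :
    ∃ g : pw (J n) (c₂.r n) ≅ pw (J n) (c₂.r n),
      Chain.mapP s.f n ≫ g.hom = Chain.mapP t.f n ∧ g.hom ≫ Chain.mapP t.g n = Chain.mapP s.g n := by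
  obtain ⟨σ⟩ := s.splitting n
  obtain ⟨τ⟩ := t.splitting n
  exact exists_iso_of_splitting σ τ

end Seq

end K293.JChain
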