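import Groth.Agent.VBPn.K700.HomVan
import Groth.Agent.Sga67.CMReg
import Groth.Agent.Sga67.SerreVB

/-!
# Lifting of morphisms `O(-n) ⟶ F₃` along a short exact sequence on projective space (node (J2) for S13667)

* `hom_lift`: `L` invertible with inverse `A`, `H¹(X, F₁ ⊗ A) = 0`: maps `L ⟶ F₃` lift to `F₂`.
* `lift`: on `P^d` over a ring: if `F₁` is quasi-coherent and `n`-regular, maps `O(-n) ⟶ F₃` lift to `F₂`.
-/

set_option autoImplicit false

universe u

open CategoryTheory CategoryTheory.Limits AlgebraicGeometry Opposite TopologicalSpace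

namespace K293.LiftP

open Groth.Agent Groth.Agent.Grpsch.PicGrp Groth.Agent.VarietyA.EulerLES Groth.Agent.PerfB K700.PicVan K700.HDim
  K700.HomVan

theorem hom_lift {X : Scheme.{u}} {L A : X.Modules} (e : CohB1.tensorMod A L ≅ Coh.structureModule X)
    (hA : PicF.IsInvertible A) {S : ShortComplex X.Modules} (hS : S.ShortExact)
    (h' : Subsingleton (Coh.HH X (CohB1.tensorMod S.X₁ A) 1)) (y : L ⟶ S.X₃) : ∃ φ : L ⟶ S.X₂, φ ≫ S.g = y := by
  have := isEquivalence_of_inv e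
  let T := DCoh.tensorRightMod A
  let e' : T.obj L ≅ Coh.structureModule X := Ega2.Tens.swap L A ≪≫ e
  have hT : (S.map T).ShortExact := shortExact_tensor hS hA
  obtain ⟨t, ht⟩ := Ega3B.SectExact.surjective_of_H1 hT h'
    ((e'.inv ≫ T.map y).app ⊤ (Dcoh.Restrict.one ⊤))
  obtain ⟨φ, hφ⟩ := T.map_surjective (e'.hom ≫ Dcoh.Restrict.unitHom t)
  refine ⟨φ, T.map_injective ?_⟩
  rw [Functor.map_comp, hφ, ← cancel_epi e'.inv, Category.assoc, Iso.inv_hom_id_assoc]
  apply Dcoh.Restrict.unit_hom_ext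
  rw [← ht]
  have h2 := Dcoh.Restrict.unitHom_comp t (T.map S.g)
  exact (congr(($h2).app ⊤ (Dcoh.Restrict.one ⊤))).trans (Dcoh.Restrict.unitHom_app_one _)

variable {d : ℕ} {R : Type u} [CommRing R]

/-- **(J2) over `P`** maps `O(-n) ⟶ F₃` lift to `F₂` if `F₁` is `n`-regular. -/
theorem lift {S : ShortComplex (CohB1.ProjSpace d R).Modules} (hS : S.ShortExact) (h₁ : Coh.IsQCoh S.X₁) {n : ℤ}
    (hr : Sga67.CMReg.Reg S.X₁ n) (y : Twist.twistProjSpace d R (-n) ⟶ S.X₃) :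
    ∃ φ : Twist.twistProjSpace d R (-n) ⟶ S.X₂, φ ≫ S.g = y := by
  obtain ⟨a⟩ := Sga67.SerreVB.nonempty_twist_mul d R n (-n)
  obtain ⟨z⟩ := Sga67.SerreVB.nonempty_twist_zero d R
  refine hom_lift (a ≪≫ eqToIso (by rw [add_neg_cancel]) ≪≫ z) ?_ hS
    (Sga67.CMReg.subsingleton_HH h₁ hr 1 le_rfl n (by push_cast; omega)) y
  exact Sga67.SerreVB.isInvertible_twist d R n

end K293.LiftP
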